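import Cfsg.Agent.H143.Pw.Dich

/-!
# `E₆(2)`: the matrix of the block `A₅` (S2464, S2452; helper335)

`exists_ne` : over the field with two elements every `M ≠ 1` in `SL₆` has a conjugate `L S U` with `S ≠ 1`,
`S` in the block of the last four coordinates.
-/

set_option autoImplicit false

namespace Cfsg.Agent.H335.TC.E6M

open Module Matrix
open Cfsg.Agent.H143.Pw.Lin Cfsg.Agent.H143.Pw.Cor
open Cfsg.Agent.H162.GaussPSL (eqf eqf_inl embf embf_apply)

universe u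

variable {F : Type u} [Field F]

local notation "SL" => Matrix.SpecialLinearGroup

theorem tv_mulVec {n : ℕ} {i j : Fin n} (h : i ≠ j) (t : F) (x : Fin n → F) (k : Fin n) :
    ((SpecialLinearGroup.transvection h t).1 *ᵥ x) k = x k + (if k = i then t * x j else 0) := by
  change ((1 + single i j t : Matrix (Fin n) (Fin n) F) *ᵥ x) k = _
  rw [Matrix.add_mulVec, Matrix.one_mulVec, Pi.add_apply]
  congr 1
  simp only [Matrix.mulVec, dotProduct, Matrix.single_apply]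
  by_cases hk : k = i
  · subst hk
    rw [if_pos rfl, Finset.sum_eq_single j]
    · simp
    · intro b _ hb
      rw [if_neg (by rintro ⟨-, h2⟩; exact hb h2.symm), zero_mul]
    · intro hh
      exact absurd (Finset.mem_univ _) hh
  · rw [if_neg hk]
    refine Finset.sum_eq_zero fun b _ => ?_
    rw [if_neg (by rintro ⟨h1, -⟩; exact hk h1.symm), zero_mul]

theorem one_mv {n : ℕ} (x : Fin n → F) : (1 : SL (Fin n) F).1 *ᵥ x = x := by
  change (1 : Matrix (Fin n) (Fin n) F) *ᵥ x = x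
  exact Matrix.one_mulVec x

theorem mul_mv {n : ℕ} (a b : SL (Fin n) F) (x : Fin n → F) : (a * b).1 *ᵥ x = a.1 *ᵥ (b.1 *ᵥ x) := by
  rw [Matrix.mulVec_mulVec]; rfl

theorem mv_inv {n : ℕ} (a : SL (Fin n) F) (x : Fin n → F) : a.1 *ᵥ ((a⁻¹).1 *ᵥ x) = x := by
  rw [← mul_mv, mul_inv_cancel, one_mv]

theorem inv_mv {n : ℕ} (a : SL (Fin n) F) (x : Fin n → F) : (a⁻¹).1 *ᵥ (a.1 *ᵥ x) = x := by
  rw [← mul_mv, inv_mul_cancel, one_mv]

/-- fixing the first two coordinates and the vectors with first two coordinates zero -/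
def LoG (n : ℕ) (F : Type u) [Field F] : Subgroup (SL (Fin (n + 2)) F) where
  carrier := {L | (∀ x, (L.1 *ᵥ x) 0 = x 0 ∧ (L.1 *ᵥ x) 1 = x 1) ∧ ∀ x, x 0 = 0 → x 1 = 0 → L.1 *ᵥ x = x}
  one_mem' := ⟨fun x => by rw [one_mv]; exact ⟨rfl, rfl⟩, fun x _ _ => one_mv x⟩
  mul_mem' := by
    rintro a b ⟨ha, ha'⟩ ⟨hb, hb'⟩
    refine ⟨fun x => ?_, fun x h0 h1 => ?_⟩
    · rw [mul_mv, (ha _).1, (ha _).2]; exact hb x
    · rw [mul_mv, hb' x h0 h1, ha' x h0 h1]
  inv_mem' := by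
    rintro a ⟨ha, ha'⟩
    have e : ∀ x, a.1 *ᵥ ((a⁻¹).1 *ᵥ x) = x := mv_inv a
    have h : ∀ x, ((a⁻¹).1 *ᵥ x) 0 = x 0 ∧ ((a⁻¹).1 *ᵥ x) 1 = x 1 := fun x => by
      have h1 := ha ((a⁻¹).1 *ᵥ x)
      rw [e] at h1
      exact ⟨h1.1.symm, h1.2.symm⟩
    refine ⟨h, fun x h0 h1 => ?_⟩
    have h2 := ha' ((a⁻¹).1 *ᵥ x) (by rw [(h x).1, h0]) (by rw [(h x).2, h1])
    rw [e] at h2
    exact h2.symm

/-- fixing the last coordinates and the vectors with last coordinates zero -/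
def UpG (n : ℕ) (F : Type u) [Field F] : Subgroup (SL (Fin (n + 2)) F) where
  carrier := {U | (∀ x k, (U.1 *ᵥ x) (sh n k) = x (sh n k)) ∧ ∀ x, (∀ k, x (sh n k) = 0) → U.1 *ᵥ x = x}
  one_mem' := ⟨fun x k => by rw [one_mv], fun x _ => one_mv x⟩
  mul_mem' := by
    rintro a b ⟨ha, ha'⟩ ⟨hb, hb'⟩
    refine ⟨fun x k => ?_, fun x h0 => ?_⟩
    · rw [mul_mv, ha, hb]
    · rw [mul_mv, hb' x h0, ha' x h0]
  inv_mem' := by
    rintro a ⟨ha, ha'⟩
    have e : ∀ x, a.1 *ᵥ ((a⁻¹).1 *ᵥ x) = x := mv_inv a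
    have h : ∀ x k, ((a⁻¹).1 *ᵥ x) (sh n k) = x (sh n k) := fun x k => by
      have h1 := ha ((a⁻¹).1 *ᵥ x) k
      rw [e] at h1
      exact h1.symm
    refine ⟨h, fun x h0 => ?_⟩
    have h2 := ha' ((a⁻¹).1 *ᵥ x) (fun k => by rw [h x, h0])
    rw [e] at h2
    exact h2.symm

theorem sh_ne (n : ℕ) (a : Fin n) : (0 : Fin (n + 2)) ≠ sh n a ∧ (1 : Fin (n + 2)) ≠ sh n a := by
  constructor
  · intro h
    have h1 : (0 : Fin (n + 2)) = a.succ.succ := h
    exact Fin.succ_ne_zero _ h1.symm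
  · intro h
    have h1 : (0 : Fin (n + 1)).succ = a.succ.succ := h
    exact Fin.succ_ne_zero _ (Fin.succ_injective _ h1).symm

theorem lowB_le (n : ℕ) : lowB n F ≤ LoG n F := by
  unfold lowB
  rw [Subgroup.closure_le]
  rintro _ ⟨a, c, h, t, hc, rfl⟩
  refine ⟨fun x => ⟨?_, ?_⟩, fun x h0 h1 => ?_⟩
  · rw [tv_mulVec, if_neg (sh_ne n a).1, add_zero]
  · rw [tv_mulVec, if_neg (sh_ne n a).2, add_zero]
  · funext k
    rw [tv_mulVec]
    rcases hc with rfl | rfl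
    · rw [h0]; simp
    · rw [h1]; simp

theorem upB_le (n : ℕ) : upB n F ≤ UpG n F := by
  unfold upB
  rw [Subgroup.closure_le]
  rintro _ ⟨a, c, h, t, hc, rfl⟩
  refine ⟨fun x k => ?_, fun x h0 => ?_⟩
  · have h1 : sh n k ≠ c := by
      rcases hc with rfl | rfl
      · exact (sh_ne n k).1.symm
      · exact (sh_ne n k).2.symm
    rw [tv_mulVec, if_neg h1, add_zero]
  · funext k
    rw [tv_mulVec, h0]
    simp

theorem sh_cases {n : ℕ} (k : Fin (n + 2)) : k = 0 ∨ k = 1 ∨ ∃ j, sh n j = k := by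
  by_cases h : ∃ j, sh n j = k
  · exact Or.inr (Or.inr h)
  · push Not at h
    rcases sh_compl h with h | h
    · exact Or.inl h
    · exact Or.inr (Or.inl h)

/-- the conclusion -/
def Res (M : SL (Fin 6) F) : Prop := ∃ P : SL (Fin 6) F, ∃ L ∈ lowB 4 F, ∃ S : SL (Fin 4) F, S ≠ 1 ∧ ∃ U ∈ upB 4 F,
  P⁻¹ * M * P = L * embf F (sh 4) S * U

/-- first case -/
theorem case1 {M : SL (Fin 6) F} {w₁ w₂ x : Fin 6 → F} (hw : LinearIndependent F ![w₁, w₂])
    (h1 : M.1 *ᵥ w₁ = w₁) (h2 : M.1 *ᵥ w₂ = w₂) (hx : ∀ a b : F, M.1 *ᵥ x - x ≠ a • w₁ + b • w₂) : Res M := by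
  obtain ⟨P', hP⟩ := exists_SL (k := 2) (d := 3) hw
  let P : SL (Fin 6) F := P'
  have c0 : P.1 *ᵥ Pi.single 0 1 = w₁ := by
    rw [Matrix.mulVec_single_one]; funext j; exact hP 0 j
  have c1 : P.1 *ᵥ Pi.single 1 1 = w₂ := by
    rw [Matrix.mulVec_single_one]; funext j; exact hP 1 j
  have hgood : Good (n := 4) (P⁻¹ * M * P).1 := by
    refine good_conj (n := 4) (c₀ := 0) (c₁ := 0) ?_ rfl rfl ?_ rfl rfl
    · rw [add_zero, c0, h1]
    · rw [add_zero, c1, h2]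
  obtain ⟨L, hL, S, U, hU, e⟩ := exists_dec hgood
  refine ⟨P, L, hL, S, ?_, U, hU, e⟩
  rintro rfl
  rw [map_one, mul_one] at e
  obtain ⟨hL1, hL2⟩ := lowB_le 4 hL
  obtain ⟨hU1, hU2⟩ := upB_le 4 hU
  have ePP : ∀ y, (P⁻¹).1 *ᵥ (P.1 *ᵥ y) = y := inv_mv P
  have ePP' : ∀ y, P.1 *ᵥ ((P⁻¹).1 *ᵥ y) = y := mv_inv P
  have eA : ∀ y, (P⁻¹).1 *ᵥ (M.1 *ᵥ (P.1 *ᵥ y)) = L.1 *ᵥ (U.1 *ᵥ y) := by
    intro y
    have h3 : (P⁻¹ * M * P).1 *ᵥ y = (L * U).1 *ᵥ y := by rw [e]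
    rw [mul_mv, mul_mv, mul_mv] at h3
    exact h3
  have u0 : U.1 *ᵥ (Pi.single 0 1 : Fin 6 → F) = Pi.single 0 1 :=
    hU2 _ fun k => Pi.single_eq_of_ne (sh_ne 4 k).1.symm _
  have u1 : U.1 *ᵥ (Pi.single 1 1 : Fin 6 → F) = Pi.single 1 1 :=
    hU2 _ fun k => Pi.single_eq_of_ne (sh_ne 4 k).2.symm _
  have l0 : L.1 *ᵥ (Pi.single 0 1 : Fin 6 → F) = Pi.single 0 1 := by
    have := eA (Pi.single 0 1)
    rw [u0, c0, h1, ← c0, ePP] at this
    exact this.symm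
  have l1 : L.1 *ᵥ (Pi.single 1 1 : Fin 6 → F) = Pi.single 1 1 := by
    have := eA (Pi.single 1 1)
    rw [u1, c1, h2, ← c1, ePP] at this
    exact this.symm
  have hLid : ∀ y, L.1 *ᵥ y = y := by
    intro y
    obtain ⟨y', hy'⟩ : ∃ y' : Fin 6 → F, y' = y - (y 0 • Pi.single 0 1 + y 1 • Pi.single 1 1) := ⟨_, rfl⟩
    have hy : y = y' + (y 0 • Pi.single 0 1 + y 1 • Pi.single 1 1) := by rw [hy']; abel
    have h3 : L.1 *ᵥ y' = y' := by
      refine hL2 y' ?_ ?_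
      · rw [hy']; simp
      · rw [hy']; simp
    conv_lhs => rw [hy]
    rw [Matrix.mulVec_add, Matrix.mulVec_add, Matrix.mulVec_smul, Matrix.mulVec_smul, h3, l0, l1, ← hy]
  set z : Fin 6 → F := (P⁻¹).1 *ᵥ x with hz
  have hPz : P.1 *ᵥ z = x := ePP' x
  have e1 := eA z
  rw [hLid, hPz] at e1
  -- `U z - z = a e₀ + b e₁`
  have e2 : U.1 *ᵥ z - z = ((U.1 *ᵥ z) 0 - z 0) • Pi.single 0 1 + ((U.1 *ᵥ z) 1 - z 1) • Pi.single 1 1 := by
    funext k
    rcases sh_cases (n := 4) k with rfl | rfl | ⟨j, rfl⟩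
    · simp
    · simp
    · rw [Pi.sub_apply, hU1 z j]
      simp [Pi.single_eq_of_ne (sh_ne 4 j).1.symm, Pi.single_eq_of_ne (sh_ne 4 j).2.symm]
  refine hx ((U.1 *ᵥ z) 0 - z 0) ((U.1 *ᵥ z) 1 - z 1) ?_
  have e3 : M.1 *ᵥ x - x = P.1 *ᵥ (U.1 *ᵥ z - z) := by
    rw [Matrix.mulVec_sub, ← e1, ePP', hPz]
  rw [e3, e2, Matrix.mulVec_add, Matrix.mulVec_smul, Matrix.mulVec_smul, c0, c1]

/-- the fixed vectors -/
theorem two_fixed {L U : SL (Fin 6) F} (hL : L ∈ lowB 4 F) (hU : U ∈ upB 4 F) :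
    ∃ w₁ w₂ : Fin 6 → F, LinearIndependent F ![w₁, w₂] ∧ (L * U).1 *ᵥ w₁ = w₁ ∧ (L * U).1 *ᵥ w₂ = w₂ := by
  obtain ⟨hL1, hL2⟩ := lowB_le 4 hL
  obtain ⟨hU1, hU2⟩ := upB_le 4 hU
  let Φ : (Fin 6 → F) →ₗ[F] (Fin 4 → F) := LinearMap.pi ![LinearMap.proj 0, LinearMap.proj 1,
    (LinearMap.proj 0).comp U.1.mulVecLin, (LinearMap.proj 1).comp U.1.mulVecLin]
  have hfix : ∀ y ∈ LinearMap.ker Φ, (L * U).1 *ᵥ y = y := by
    intro y hy
    rw [LinearMap.mem_ker] at hy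
    have a0 : y 0 = 0 := congrFun hy 0
    have a1 : y 1 = 0 := congrFun hy 1
    have a2 : (U.1 *ᵥ y) 0 = 0 := congrFun hy 2
    have a3 : (U.1 *ᵥ y) 1 = 0 := congrFun hy 3
    have h1 : U.1 *ᵥ y = y := by
      funext k
      rcases sh_cases (n := 4) k with rfl | rfl | ⟨j, rfl⟩
      · rw [a2, a0]
      · rw [a3, a1]
      · exact hU1 y j
    rw [mul_mv, h1, hL2 y a0 a1]
  have hd : 2 ≤ finrank F (LinearMap.ker Φ) := by
    have h1 := LinearMap.finrank_range_add_finrank_ker Φ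
    have h2 : finrank F (LinearMap.range Φ) ≤ 4 := by
      refine le_trans (Submodule.finrank_le _) ?_
      simp
    rw [Module.finrank_fin_fun] at h1
    omega
  have : Nontrivial (LinearMap.ker Φ) := Module.nontrivial_of_finrank_pos (R := F) (by omega)
  obtain ⟨a, ha⟩ := exists_ne (0 : LinearMap.ker Φ)
  obtain ⟨b, hb⟩ := exists_linearIndependent_pair_of_one_lt_finrank (by omega : 1 < finrank F (LinearMap.ker Φ)) ha
  refine ⟨a.1, b.1, ?_, hfix _ a.2, hfix _ b.2⟩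
  have h3 := hb.map' (LinearMap.ker Φ).subtype (Submodule.ker_subtype _)
  have h4 : (⇑(LinearMap.ker Φ).subtype ∘ ![a, b]) = ![a.1, b.1] := by
    funext i
    fin_cases i <;> rfl
  rwa [h4] at h3

/-- **Every `M ≠ 1` over the field with two elements.** -/
theorem exists_ne [Finite F] (hK : Nat.card F = 2) {M : SL (Fin 6) F} (hM : M ≠ 1) : Res M := by
  by_cases h : ∃ w₁ w₂ : Fin 6 → F, LinearIndependent F ![w₁, w₂] ∧ M.1 *ᵥ w₁ = w₁ ∧ M.1 *ᵥ w₂ = w₂
  · obtain ⟨w₁, w₂, hw, h1, h2⟩ := h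
    by_cases hx : ∃ x, ∀ a b : F, M.1 *ᵥ x - x ≠ a • w₁ + b • w₂
    · obtain ⟨x, hx⟩ := hx
      exact case1 hw h1 h2 hx
    push Not at hx
    -- an element moved by `M`
    obtain ⟨x, hx0⟩ : ∃ x, M.1 *ᵥ x - x ≠ 0 := by
      by_contra hcon
      push Not at hcon
      apply hM
      apply Subtype.ext
      ext i j
      have h3 := congrFun (hcon (Pi.single j 1)) i
      rw [Matrix.mulVec_single_one] at h3
      have h4 : M.1 i j - (Pi.single j (1 : F) : Fin 6 → F) i = 0 := h3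
      rw [sub_eq_zero] at h4
      change M.1 i j = (1 : Matrix (Fin 6) (Fin 6) F) i j
      rw [h4, Pi.single_apply, Matrix.one_apply]
    set N : (Fin 6 → F) →ₗ[F] (Fin 6 → F) := M.1.mulVecLin - LinearMap.id with hN
    have hNx : ∀ x, N x = M.1 *ᵥ x - x := fun x => rfl
    have hker : ∀ y, y ∈ LinearMap.ker N ↔ M.1 *ᵥ y = y := fun y => by
      rw [LinearMap.mem_ker, hNx, sub_eq_zero]
    have hr : finrank F (LinearMap.range N) ≤ 2 := by
      have h3 : LinearMap.range N ≤ Submodule.span F (Set.range ![w₁, w₂]) := by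
        rintro _ ⟨y, rfl⟩
        obtain ⟨a, b, e⟩ := hx y
        rw [hNx, e]
        exact add_mem (Submodule.smul_mem _ _ (Submodule.subset_span ⟨0, rfl⟩))
          (Submodule.smul_mem _ _ (Submodule.subset_span ⟨1, rfl⟩))
      refine le_trans (Submodule.finrank_mono h3) ?_
      refine le_trans (finrank_range_le_card _) ?_
      simp
    have hk : 4 ≤ finrank F (LinearMap.ker N) := by
      have h3 := LinearMap.finrank_range_add_finrank_ker N
      rw [Module.finrank_fin_fun] at h3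
      omega
    have hz : M.1 *ᵥ x - x ∈ LinearMap.ker N := by
      obtain ⟨a, b, e⟩ := hx x
      rw [e]
      exact add_mem (Submodule.smul_mem _ _ ((hker _).2 h1)) (Submodule.smul_mem _ _ ((hker _).2 h2))
    obtain ⟨z, hzd⟩ : ∃ z : LinearMap.ker N, z.1 = M.1 *ᵥ x - x := ⟨⟨_, hz⟩, rfl⟩
    have hz0 : z ≠ 0 := by
      rintro rfl
      exact hx0 hzd.symm
    obtain ⟨a, ha⟩ := exists_linearIndependent_pair_of_one_lt_finrank (by omega : 1 < finrank F (LinearMap.ker N)) hz0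
    obtain ⟨b, hb⟩ := exists_linearIndependent_cons_of_lt_finrank ha (by omega : 2 < finrank F (LinearMap.ker N))
    have h3 := hb.map' (LinearMap.ker N).subtype (Submodule.ker_subtype _)
    have h5 := h3.comp (![2, 0] : Fin 2 → Fin 3) (by decide)
    have h6 : LinearIndependent F ![a.1, b.1] := by
      have e : ((⇑(LinearMap.ker N).subtype ∘ Fin.cons b ![z, a]) ∘ (![2, 0] : Fin 2 → Fin 3)) = ![a.1, b.1] := by
        funext i
        fin_cases i <;> rfl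
      rwa [e] at h5
    refine case1 (x := x) h6 ((hker _).1 a.2) ((hker _).1 b.2) ?_
    intro s t e
    rw [Fintype.linearIndependent_iff] at h3
    have h7 := h3 (![-t, 1, -s] : Fin 3 → F) (by
      rw [Fin.sum_univ_three]
      change (-t) • b.1 + (1 : F) • z.1 + (-s) • a.1 = 0
      rw [hzd, e, one_smul, neg_smul, neg_smul]
      abel) 1
    exact one_ne_zero h7
  · have hM1 : M.1 ≠ -1 := by
      intro h1
      apply hM
      apply Subtype.ext
      have h2 : (2 : F) = 0 := by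
        have := Fintype.ofFinite F
        have h3 : ((Fintype.card F : ℕ) : F) = 0 := Nat.cast_card_eq_zero F
        rw [← Nat.card_eq_fintype_card, hK] at h3
        exact_mod_cast h3
      rw [h1]
      ext i j
      change -((1 : Matrix (Fin 6) (Fin 6) F) i j) = (1 : Matrix (Fin 6) (Fin 6) F) i j
      rw [Matrix.one_apply]
      split_ifs
      · linear_combination -h2
      · exact neg_zero
    rcases dich (Or.inl hK) hM1 with ⟨P, hP⟩ | ⟨h3, -⟩
    · obtain ⟨L, hL, S, U, hU, e⟩ := exists_dec hP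
      refine ⟨P, L, hL, S, ?_, U, hU, e⟩
      rintro rfl
      rw [map_one, mul_one] at e
      obtain ⟨w₁, w₂, hw, h1, h2⟩ := two_fixed hL hU
      apply h
      have ePP' : ∀ y, P.1 *ᵥ ((P⁻¹).1 *ᵥ y) = y := mv_inv P
      have ePP : ∀ y, (P⁻¹).1 *ᵥ (P.1 *ᵥ y) = y := inv_mv P
      have key : ∀ w, (L * U).1 *ᵥ w = w → M.1 *ᵥ (P.1 *ᵥ w) = P.1 *ᵥ w := by
        intro w hw
        rw [← e] at hw
        rw [mul_mv, mul_mv] at hw
        have h5 := congrArg (fun y => P.1 *ᵥ y) hw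
        simp only [ePP'] at h5
        exact h5
      refine ⟨P.1 *ᵥ w₁, P.1 *ᵥ w₂, ?_, key _ h1, key _ h2⟩
      have h3 := hw.map' P.1.mulVecLin (by
        rw [LinearMap.ker_eq_bot]
        intro x y hxy
        have h4 := congrArg (fun y => (P⁻¹).1 *ᵥ y) hxy
        simp only [Matrix.mulVecLin_apply, ePP] at h4
        exact h4)
      have h4 : (⇑P.1.mulVecLin ∘ ![w₁, w₂]) = ![P.1 *ᵥ w₁, P.1 *ᵥ w₂] := by
        funext i
        fin_cases i <;> rfl
      rwa [h4] at h3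
    · exfalso
      have := Fintype.ofFinite F
      have h4 : ((Fintype.card F : ℕ) : F) = 0 := Nat.cast_card_eq_zero F
      rw [← Nat.card_eq_fintype_card, hK] at h4
      have h5 : (2 : F) = 0 := by exact_mod_cast h4
      have h6 : (1 : F) = 0 := by linear_combination h3 - h5
      exact one_ne_zero h6

end Cfsg.Agent.H335.TC.E6M
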