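import Cfsg.Agent.H335.TC.ESixW
import Cfsg.Agent.H335.TC.ESixMat
import Cfsg.Agent.LieClassical.SLGen

/-!
# `E₆(2)`: the corner with a nontrivial component in `A₄` (S2464, S2452; helper335)

`corner_ne` : every element outside the core is conjugate to `v l u`, `v ∈ V_J⁻`, `u ∈ V_J`, `J = {0, 1, 2, 3, 5}`,
and `l ≠ 1` in the group of the block `{0, 2, 3, 1}`.
-/

set_option autoImplicit false
set_option linter.unusedSectionVars false

namespace Cfsg.Agent.H335.TC.E6G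

open CoxeterSystem Cfsg.Agent.ChevalleyStructure.CoxeterGeom Cfsg.Agent.Tits.Roots Cfsg.Agent.Tits.Core
  Cfsg.Agent.Tits.RootComb Cfsg.Agent.Tits.Exchange
  Cfsg.Agent.Nodes.Comb
  Cfsg.Agent.Nodes.Reps Cfsg.Agent.Nodes.BNOf Cfsg.Agent.Nodes.RGDLib Cfsg.Agent.Nodes.Bruhat
  Cfsg.Agent.Nodes.OppDec Cfsg.Agent.Nodes.LeviDec Cfsg.Agent.Nodes.KindChev Cfsg.Agent.Nodes.ChevCls
  Cfsg.Agent.Nodes.StabComb
  Cfsg.Agent.OddHalf.NI.ModelChev
  Cfsg.Agent.H162.GaussDec Cfsg.Agent.H162.GaussLevi Cfsg.Agent.H162.GaussSL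
  Cfsg.Agent.H162.GaussMain Cfsg.Agent.H162.GaussPQ Cfsg.Agent.H162.GaussExc
open Cfsg.Lie Cfsg.Agent.ChevalleyStructure Cfsg.Agent.ChevalleyStructure.Elts
  Cfsg.Agent.ChevalleyStructure.RootVec Cfsg.Agent.ChevalleyStructure.NPerm
  Cfsg.Agent.ChevalleyStructure.CoxeterGeomTypes Cfsg.Agent.Nodes.RGDChev Cfsg.Agent.KFacts.RgdChevCoord
open Cfsg.Agent.H162.GaussPSL (embf embf_tv)
open Cfsg.Agent.H143.Pw.Cor Cfsg.Agent.H143.Pw.ESix Cfsg.Agent.H335.TC.E6W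

universe u

variable {K : Type u} [Field K]

local notation "SLn" => Matrix.SpecialLinearGroup
local notation "tvn" => Matrix.SpecialLinearGroup.transvection

/-- the aim -/
def Gl (g : ↥(chevE6.group K)) : Prop :=
  ∃ y : ↥(chevE6.group K), ∃ v ∈ VNJ cs hp.isCartan (XX chevE6 6 K) {k | k ∈ Jp},
    ∃ l ∈ SP K PL, l ≠ 1 ∧ ∃ u ∈ VJ cs hp.isCartan (XX chevE6 6 K) {k | k ∈ Jp}, y * g * y⁻¹ = v * l * u

theorem Gl.of_conj {g : ↥(chevE6.group K)} (x : ↥(chevE6.group K)) (h : Gl (x * g * x⁻¹)) : Gl g := by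
  obtain ⟨y, v, hv, l, hl, hl1, u, hu, e⟩ := h
  refine ⟨y * x, v, hv, l, hl, hl1, u, hu, ?_⟩
  rw [← e]
  group

/-- lower part of the block -/
abbrev Qm (x : Fin 6 → ℤ) : Prop := x 1 < 0 ∧ x 4 = 0 ∧ x 5 = 0

/-- upper part of the block -/
abbrev Qp (x : Fin 6 → ℤ) : Prop := 0 < x 1 ∧ x 4 = 0 ∧ x 5 = 0

set_option synthInstance.maxHeartbeats 200000 in
set_option synthInstance.maxSize 2000 in
theorem tQm : ∀ q < 72, (∃ k, k ∉ J5 ∧ vec chevE6 6 q k < 0) → (∃ k, k ∉ Jp ∧ vec chevE6 6 q k < 0) ∨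
    Qm (vec chevE6 6 q) := by decide +kernel

set_option synthInstance.maxHeartbeats 200000 in
set_option synthInstance.maxSize 2000 in
theorem tQp : ∀ q < 72, (∃ k, k ∉ J5 ∧ 0 < vec chevE6 6 q k) → (∃ k, k ∉ Jp ∧ 0 < vec chevE6 6 q k) ∨
    Qp (vec chevE6 6 q) := by decide +kernel

theorem Qm_PL : SP K Qm ≤ SP K PL := SP_mono fun _ _ h => h.2

theorem Qp_PL : SP K Qp ≤ SP K PL := SP_mono fun _ _ h => h.2

theorem Qm_V : SP K Qm ≤ VNJ cs hp.isCartan (XX chevE6 6 K) {k | k ∈ J5} := by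
  rw [VNJ_eq]
  exact SP_mono fun _ _ h => ⟨1, by decide, h.1⟩

theorem Qp_V : SP K Qp ≤ VJ cs hp.isCartan (XX chevE6 6 K) {k | k ∈ J5} := by
  rw [VJ_eq]
  exact SP_mono fun _ _ h => ⟨1, by decide, h.1⟩

variable [Finite K]

theorem split_m {w : ↥(chevE6.group K)} (hw : w ∈ VNJ cs hp.isCartan (XX chevE6 6 K) {k | k ∈ J5}) :
    ∃ n ∈ VNJ cs hp.isCartan (XX chevE6 6 K) {k | k ∈ Jp}, ∃ l ∈ SP K Qm, w = n * l := by
  obtain ⟨p, hpc⟩ := CharP.exists K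
  have : Fact p.Prime := ⟨(CharP.char_is_prime_or_zero K p).resolve_right (CharP.char_ne_zero_of_finite K p)⟩
  have R := rgd (K := K) hp cs p
  have h1 : w ∈ ((VNJ cs hp.isCartan (XX chevE6 6 K) {k | k ∈ Jp} ⊔ SP K Qm : Subgroup ↥(chevE6.group K)) :
      Set ↥(chevE6.group K)) := by
    rw [VNJ_eq] at hw
    refine (?_ : SP K (fun x => ∃ k, k ∉ J5 ∧ x k < 0) ≤ _) hw
    refine SP_le fun q hq hP c => ?_
    rcases tQm q hq hP with h | h
    · refine Subgroup.mem_sup_left ?_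
      rw [VNJ_eq]
      exact mem_SP hq h c
    · exact Subgroup.mem_sup_right (mem_SP hq h c)
  rw [Subgroup.coe_mul_of_right_le_normalizer_left _ _ (le_trans (le_trans Qm_PL PL_le_LJ) (LJ_le_normalizer_VNJ R _)),
    Set.mem_mul] at h1
  obtain ⟨v, hv, l, hl, e⟩ := h1
  exact ⟨v, hv, l, hl, e.symm⟩

theorem split_p {w : ↥(chevE6.group K)} (hw : w ∈ VJ cs hp.isCartan (XX chevE6 6 K) {k | k ∈ J5}) :
    ∃ l ∈ SP K Qp, ∃ n ∈ VJ cs hp.isCartan (XX chevE6 6 K) {k | k ∈ Jp}, w = l * n := by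
  obtain ⟨p, hpc⟩ := CharP.exists K
  have : Fact p.Prime := ⟨(CharP.char_is_prime_or_zero K p).resolve_right (CharP.char_ne_zero_of_finite K p)⟩
  have R := rgd (K := K) hp cs p
  have h1 : w ∈ ((SP K Qp ⊔ VJ cs hp.isCartan (XX chevE6 6 K) {k | k ∈ Jp} : Subgroup ↥(chevE6.group K)) :
      Set ↥(chevE6.group K)) := by
    rw [VJ_eq] at hw
    refine (?_ : SP K (fun x => ∃ k, k ∉ J5 ∧ 0 < x k) ≤ _) hw
    refine SP_le fun q hq hP c => ?_
    rcases tQp q hq hP with h | h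
    · refine Subgroup.mem_sup_right ?_
      rw [VJ_eq]
      exact mem_SP hq h c
    · exact Subgroup.mem_sup_left (mem_SP hq h c)
  rw [Subgroup.coe_mul_of_left_le_normalizer_right _ _ (le_trans (le_trans Qp_PL PL_le_LJ) (LJ_le_normalizer_VJ R _)),
    Set.mem_mul] at h1
  obtain ⟨l, hl, v, hv, e⟩ := h1
  exact ⟨l, hl, v, hv, e.symm⟩

/-- the last step -/
theorem core {n l₁ s l₂ n' : ↥(chevE6.group K)} (hn : n ∈ VNJ cs hp.isCartan (XX chevE6 6 K) {k | k ∈ Jp})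
    (h1 : l₁ ∈ SP K Qm) (hs : s ∈ SP K PL)
    (hs' : s ∈ LJ cs hp.isCartan (TT chevE6 K) (XX chevE6 6 K) {k | k ∈ J5}) (h2 : l₂ ∈ SP K Qp)
    (hn' : n' ∈ VJ cs hp.isCartan (XX chevE6 6 K) {k | k ∈ Jp}) (hne : ¬ (l₁ = 1 ∧ s = 1 ∧ l₂ = 1)) :
    Gl (n * l₁ * s * l₂ * n') := by
  obtain ⟨p, hpc⟩ := CharP.exists K
  have : Fact p.Prime := ⟨(CharP.char_is_prime_or_zero K p).resolve_right (CharP.char_ne_zero_of_finite K p)⟩
  have := finite_W hp cs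
  have R := rgd (K := K) hp cs p
  refine ⟨1, n, hn, l₁ * s * l₂, mul_mem (mul_mem (Qm_PL h1) hs) (Qp_PL h2), fun e => hne ?_, n', hn', by group⟩
  have e1 : l₁ = (s * l₂)⁻¹ := by
    rw [← mul_inv_eq_one, inv_inv, ← mul_assoc, e]
  have a1 : l₁ = 1 := by
    refine eq_one_of_mem_VNJ_of_mem_PJ R (Qm_V h1) ?_
    rw [e1]
    exact inv_mem (mul_mem (LJ_le_PJ hs') (VJ_le_PJ (Qp_V h2)))
  have e2 : s * l₂ = 1 := by
    rw [a1] at e1
    exact inv_eq_one.1 e1.symm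
  have e3 : s = l₂⁻¹ := eq_inv_of_mul_eq_one_left e2
  have a2 : s = 1 := by
    refine eq_one_of_mem_LJ_of_mem_VJ R hs' ?_
    rw [e3]
    exact inv_mem (Qp_V h2)
  refine ⟨a1, a2, ?_⟩
  rw [a2, one_mul] at e2
  exact e2

/-! ### The kernel -/

theorem center_bot (hK : Nat.card K = 2) : Subgroup.center (SLn (Fin 4) K) = ⊥ := by
  have := Fintype.ofFinite K
  rw [Subgroup.eq_bot_iff_forall]
  intro A hA
  obtain ⟨r, hr, e⟩ := Matrix.SpecialLinearGroup.mem_center_iff.1 hA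
  have h0 : r ≠ 0 := by
    rintro rfl
    rw [Fintype.card_fin, zero_pow (by norm_num)] at hr
    exact zero_ne_one hr
  have h1 := FiniteField.pow_card_sub_one_eq_one r h0
  rw [← Nat.card_eq_fintype_card, hK, pow_one] at h1
  apply Subtype.ext
  rw [← e, h1, map_one]
  rfl

theorem phi_ne (hK : Nat.card K = 2) {φ : SLn (Fin 6) K →* ↥(chevE6.group K)} (hφ : IsBlk a5 φ) {S : SLn (Fin 4) K}
    (hS : S ≠ 1) : φ (embf K (sh 4) S) ≠ 1 := by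
  intro h
  have hs : IsSimpleGroup (Matrix.ProjectiveSpecialLinearGroup (Fin 4) K) :=
    Cfsg.Agent.LieClassical.SLGen.psl_isSimpleGroup (by simp)
  have e : Matrix.ProjectiveSpecialLinearGroup (Fin 4) K ≃* SLn (Fin 4) K :=
    (QuotientGroup.quotientMulEquivOfEq (center_bot hK)).trans QuotientGroup.quotientBot
  have hs' : IsSimpleGroup (SLn (Fin 4) K) := by
    have : Nontrivial (SLn (Fin 4) K) := ⟨S, 1, hS⟩
    exact IsSimpleGroup.isSimpleGroup_of_surjective e.toMonoidHom e.surjective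
  have hN : (φ.comp (embf K (sh 4))).ker.Normal := inferInstance
  rcases hN.eq_bot_or_eq_top with h1 | h1
  · have h2 : S ∈ (φ.comp (embf K (sh 4))).ker := h
    rw [h1, Subgroup.mem_bot] at h2
    exact hS h2
  · have h2 : (tvn (show (0 : Fin 4) ≠ 1 by decide) (1 : K)) ∈ (φ.comp (embf K (sh 4))).ker := by
      rw [h1]; exact Subgroup.mem_top _
    have h3 : φ (embf K (sh 4) (tvn (show (0 : Fin 4) ≠ 1 by decide) (1 : K))) = 1 := h2
    have hne : sh 4 0 ≠ sh 4 1 := fun h => absurd ((sh 4).injective h) (by decide)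
    rw [embf_tv, Cfsg.Agent.TitsThree.KSideA.tv_of_ne hne, hφ] at h3
    have h4 : xc hp (vec chevE6 6 (a5 (sh 4 0) (sh 4 1))) (1 : K) = xc hp (vec chevE6 6 (a5 (sh 4 0) (sh 4 1))) 0 := by
      rw [h3, xc_zero hp (rt5.1 _ _ hne)]
    exact one_ne_zero (xc_inj hp (rt5.1 _ _ hne) h4)

/-! ### The block `A₅` -/

theorem low5' : ∀ (a : Fin 4) (c : Fin 6), sh 4 a ≠ c → (c = 0 ∨ c = 1) →
    ∃ k, k ∉ Jp ∧ vec chevE6 6 (a5 (sh 4 a) c) k < 0 := by decide +kernel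

theorem up5' : ∀ (a : Fin 4) (c : Fin 6), c ≠ sh 4 a → (c = 0 ∨ c = 1) →
    ∃ k, k ∉ Jp ∧ 0 < vec chevE6 6 (a5 c (sh 4 a)) k := by decide +kernel

/-- a nontrivial component in the block -/
theorem of_ne (hK : Nat.card K = 2) {φ : SLn (Fin 6) K →* ↥(chevE6.group K)} (hφ : IsBlk a5 φ) {M : SLn (Fin 6) K}
    (hM : M ≠ 1) {v u : ↥(chevE6.group K)} (hv : v ∈ VNJ cs hp.isCartan (XX chevE6 6 K) {k | k ∈ J5})
    (hu : u ∈ VJ cs hp.isCartan (XX chevE6 6 K) {k | k ∈ J5}) : Gl (v * φ M * u) := by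
  obtain ⟨p, hpc⟩ := CharP.exists K
  have : Fact p.Prime := ⟨(CharP.char_is_prime_or_zero K p).resolve_right (CharP.char_ne_zero_of_finite K p)⟩
  have R := rgd (K := K) hp cs p
  obtain ⟨P, L, hL, S, hS, U, hU, e⟩ := Cfsg.Agent.H335.TC.E6M.exists_ne hK hM
  refine Gl.of_conj (φ P⁻¹) ?_
  have hv' : φ P⁻¹ * v * (φ P⁻¹)⁻¹ ∈ VNJ cs hp.isCartan (XX chevE6 6 K) {k | k ∈ J5} :=
    (Subgroup.mem_normalizer_iff.1 (LJ_le_normalizer_VNJ R _ (phi_LJ tabJ5 hφ P⁻¹)) v).1 hv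
  have hu' : φ P⁻¹ * u * (φ P⁻¹)⁻¹ ∈ VJ cs hp.isCartan (XX chevE6 6 K) {k | k ∈ J5} :=
    (Subgroup.mem_normalizer_iff.1 (LJ_le_normalizer_VJ R _ (phi_LJ tabJ5 hφ P⁻¹)) u).1 hu
  obtain ⟨n, hn, l₁, hl₁, e1⟩ := split_m hv'
  obtain ⟨l₂, hl₂, n', hn', e2⟩ := split_p hu'
  have e3 : φ P⁻¹ * (v * φ M * u) * (φ P⁻¹)⁻¹ =
      (n * (l₁ * φ L * l₁⁻¹)) * l₁ * φ (embf K (sh 4) S) * l₂ * ((l₂⁻¹ * φ U * l₂⁻¹⁻¹) * n') := by
    calc φ P⁻¹ * (v * φ M * u) * (φ P⁻¹)⁻¹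
        = (φ P⁻¹ * v * (φ P⁻¹)⁻¹) * φ (P⁻¹ * M * P) * (φ P⁻¹ * u * (φ P⁻¹)⁻¹) := by
          rw [map_mul, map_mul, map_inv]; group
      _ = _ := by rw [e1, e2, e, map_mul, map_mul]; group
  rw [e3]
  have hφL : φ L ∈ VNJ cs hp.isCartan (XX chevE6 6 K) {k | k ∈ Jp} := by
    rw [VNJ_eq]
    refine map_closure_le rt5.1 hφ ?_ hL
    rintro x ⟨a, c, h, t, hc, rfl⟩
    exact ⟨_, _, h, t, low5' a c h hc, rfl⟩
  have hφU : φ U ∈ VJ cs hp.isCartan (XX chevE6 6 K) {k | k ∈ Jp} := by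
    rw [VJ_eq]
    refine map_closure_le rt5.1 hφ ?_ hU
    rintro x ⟨a, c, h, t, hc, rfl⟩
    exact ⟨_, _, h, t, up5' a c h hc, rfl⟩
  refine core (mul_mem hn ?_) hl₁ (embf_mem rt5.1 hφ mid5 S) (phi_LJ tabJ5 hφ _) hl₂ (mul_mem ?_ hn') ?_
  · exact (Subgroup.mem_normalizer_iff.1 (LJ_le_normalizer_VNJ R _ (PL_le_LJ (Qm_PL hl₁))) _).1 hφL
  · exact (Subgroup.mem_normalizer_iff.1 (LJ_le_normalizer_VJ R _ (inv_mem (PL_le_LJ (Qp_PL hl₂)))) _).1 hφU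
  · rintro ⟨-, h, -⟩
    exact phi_ne hK hφ hS h

/-! ### The radical -/

/-- the word which moves the highest root into the block -/
def w5 : List (Fin 6) := [1, 3, 4, 2, 3, 1]

theorem w5_tab : rfw w5 0 = 11 ∧ rfw w5 71 = 60 := by decide +kernel

/-- trivial component in the block -/
theorem of_one (hK : Nat.card K = 2) {φ : SLn (Fin 6) K →* ↥(chevE6.group K)} (hφ : IsBlk a5 φ)
    {v u : ↥(chevE6.group K)} (hv : v ∈ VNJ cs hp.isCartan (XX chevE6 6 K) {k | k ∈ J5})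
    (hu : u ∈ VJ cs hp.isCartan (XX chevE6 6 K) {k | k ∈ J5}) (hne : v * u ≠ 1) : Gl (v * u) := by
  obtain ⟨p, hpc⟩ := CharP.exists K
  have : Fact p.Prime := ⟨(CharP.char_is_prime_or_zero K p).resolve_right (CharP.char_ne_zero_of_finite K p)⟩
  by_cases hA : ∃ ω ∈ Wl, ∃ k, Rp cs (rgd (K := K) hp cs p).nsys (cs.wordProd ω) k ∧
      ¬ (k * v * k⁻¹ ∈ VNJ cs hp.isCartan (XX chevE6 6 K) {k | k ∈ Jp} ∧
        k * u * k⁻¹ ∈ VJ cs hp.isCartan (XX chevE6 6 K) {k | k ∈ Jp})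
  · obtain ⟨ω, hω, k, hk, hno⟩ := hA
    have hwJ : cs.wordProd ω ∈ WJ cs {k | k ∈ J5} := wordProd_mem_WJ cs (Wl_mem ω hω)
    have hv' : k * v * k⁻¹ ∈ VNJ cs hp.isCartan (XX chevE6 6 K) {k | k ∈ J5} :=
      conj_mem_Sup (rgd (K := K) hp cs p) hk (fun x hx => NotNJ.isRoot hx) (fun x hx => NotNJ.act hwJ hx) hv
    have hu' : k * u * k⁻¹ ∈ VJ cs hp.isCartan (XX chevE6 6 K) {k | k ∈ J5} :=
      conj_mem_Sup (rgd (K := K) hp cs p) hk (fun x hx => hx.1) (fun x hx => NotJ.act hwJ hx) hu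
    obtain ⟨n, hn, l₁, hl₁, e1⟩ := split_m hv'
    obtain ⟨l₂, hl₂, n', hn', e2⟩ := split_p hu'
    refine Gl.of_conj k ?_
    have e3 : k * (v * u) * k⁻¹ = n * l₁ * 1 * l₂ * n' := by
      calc k * (v * u) * k⁻¹ = (k * v * k⁻¹) * (k * u * k⁻¹) := by group
        _ = _ := by rw [e1, e2]; group
    rw [e3]
    refine core hn hl₁ (one_mem _) (one_mem _) hl₂ hn' ?_
    rintro ⟨rfl, -, rfl⟩
    apply hno
    rw [mul_one] at e1
    rw [one_mul] at e2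
    rw [e1, e2]
    exact ⟨hn, hn'⟩
  · push Not at hA
    have hv0 := center_m (p := p) hv fun ω hω k hk => (hA ω hω k hk).1
    have hu0 := center_p (p := p) hu fun ω hω k hk => (hA ω hω k hk).2
    obtain ⟨k, hk⟩ := exists_rp cs (rgd (K := K) hp cs p).nsys (cs.wordProd w5)
    have h1 := (rgd (K := K) hp cs p).conj_mem hk (isRoot_vec hp _ (by decide)) hv0
    have h2 := (rgd (K := K) hp cs p).conj_mem hk (isRoot_vec hp _ (by decide)) hu0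
    rw [rep_word w5 (by decide), w5_tab.1] at h1
    rw [rep_word w5 (by decide), w5_tab.2] at h2
    obtain ⟨c, e1⟩ := (mem_XX hp (by decide) _).1 h1
    obtain ⟨d, e2⟩ := (mem_XX hp (by decide) _).1 h2
    obtain ⟨M, hM⟩ : ∃ M, M = tvn (show (5 : Fin 6) ≠ 0 by decide) c * tvn (show (0 : Fin 6) ≠ 5 by decide) d := ⟨_, rfl⟩
    have e3 : k * (v * u) * k⁻¹ = 1 * φ M * 1 := by
      calc k * (v * u) * k⁻¹ = (k * v * k⁻¹) * (k * u * k⁻¹) := by group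
        _ = φ M := by
          rw [e1, e2, hM, map_mul, hφ, hφ]
          rfl
        _ = _ := by group
    refine Gl.of_conj k ?_
    rw [e3]
    refine of_ne hK hφ ?_ (one_mem _) (one_mem _)
    rintro rfl
    apply hne
    rw [map_one] at e3
    have : v * u = k⁻¹ * (k * (v * u) * k⁻¹) * k := by group
    rw [this, e3]
    group

/-- **The corner with a nontrivial component.** -/
theorem corner_ne (hK : Nat.card K = 2) {g : ↥(chevE6.group K)}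
    (hg : g ∉ (RGD.B cs hp.isCartan (TT chevE6 K) (XX chevE6 6 K)).normalCore) : Gl g := by
  obtain ⟨p, hpc⟩ := CharP.exists K
  have : Fact p.Prime := ⟨(CharP.char_is_prime_or_zero K p).resolve_right (CharP.char_ne_zero_of_finite K p)⟩
  have := finite_W hp cs
  have R := rgd (K := K) hp cs p
  obtain ⟨φ, hφ⟩ := exists_blk (K := K) rt5
  obtain ⟨x, v, hv, u, hu, e⟩ := gauss R (G1_eq_top hp _) (coord hp)
    (Cfsg.Agent.Nodes.ChevChart.irr_of Cfsg.Agent.Nodes.ChevChart.irr6) hg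
  obtain ⟨vP, hvP, vL, hvL, rfl⟩ := exists_UNJ R (J := {k | k ∈ J5}) hv
  obtain ⟨uL, huL, uP, huP, rfl⟩ := (mem_U_iff R (J := {k | k ∈ J5})).1 hu
  obtain ⟨L, hL, rfl⟩ := lo_blk hφ hvL
  obtain ⟨U, hU, rfl⟩ := up_blk hφ huL
  obtain ⟨M, hM⟩ : ∃ M, M = L * U := ⟨_, rfl⟩
  have e1 : x * g * x⁻¹ = vP * φ M * uP := by rw [e, hM, map_mul]; group
  refine Gl.of_conj x ?_
  rw [e1]
  by_cases h : M = 1
  · rw [h, map_one, mul_one] at e1 ⊢
    refine of_one hK hφ hvP huP fun h1 => hg ?_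
    rw [h1] at e1
    have h2 : g = 1 := by
      have : g = x⁻¹ * (x * g * x⁻¹) * x := by group
      rw [this, e1]
      group
    rw [h2]
    exact one_mem _
  · exact of_ne hK hφ h hvP huP

end Cfsg.Agent.H335.TC.E6G
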