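import Cfsg.Agent.H143.Pw.ESix
import Cfsg.Agent.Nodes.Unique

/-!
# `E₆(2)`: the elements of the radical all of whose conjugates under the Weyl group of `A₅` are small
(S2464, S2452; helper335)

* `inf_conj` : intersection of two joins of root groups of closed sets of roots made positive by some `w`;
* `center_m`, `center_p` : the elements of `V_{J5}⁻`, `V_{J5}` whose conjugates under six words are in `V_{Jp}⁻`,
  `V_{Jp}`, are in the root group of the lowest, highest root.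
-/

set_option autoImplicit false
set_option linter.unusedSectionVars false

namespace Cfsg.Agent.H335.TC.E6W

open CoxeterSystem Cfsg.Agent.ChevalleyStructure.CoxeterGeom Cfsg.Agent.Tits.Roots Cfsg.Agent.Tits.Core
  Cfsg.Agent.Tits.RootComb Cfsg.Agent.Tits.Exchange
  Cfsg.Agent.Nodes.Comb
  Cfsg.Agent.Nodes.Reps Cfsg.Agent.Nodes.BNOf Cfsg.Agent.Nodes.RGDLib Cfsg.Agent.Nodes.Bruhat
  Cfsg.Agent.Nodes.OppDec Cfsg.Agent.Nodes.LeviDec Cfsg.Agent.Nodes.KindChev Cfsg.Agent.Nodes.ChevCls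
  Cfsg.Agent.Nodes.StabComb Cfsg.Agent.Nodes.Unique
  Cfsg.Agent.OddHalf.NI.ModelChev
  Cfsg.Agent.H162.GaussDec Cfsg.Agent.H162.GaussLevi Cfsg.Agent.H162.GaussSL
  Cfsg.Agent.H162.GaussMain Cfsg.Agent.H162.GaussPQ Cfsg.Agent.H162.GaussExc
open Cfsg.Lie Cfsg.Agent.ChevalleyStructure Cfsg.Agent.ChevalleyStructure.Elts
  Cfsg.Agent.ChevalleyStructure.RootVec Cfsg.Agent.ChevalleyStructure.NPerm
  Cfsg.Agent.ChevalleyStructure.CoxeterGeomTypes Cfsg.Agent.Nodes.RGDChev Cfsg.Agent.KFacts.RgdChevCoord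
open Cfsg.Agent.H143.Pw.ESix

section

variable {I W Y : Type*} [Fintype I] [DecidableEq I] [Group W] [Group Y] {M : CoxeterMatrix I}
  {cs : CoxeterSystem M W} {A : I → I → ℤ} {h : IsCartan M A} {p : ℕ} {T : Subgroup Y} {n : I → Y}
  {X : (I → ℤ) → Subgroup Y}

/-- intersections of joins of root groups -/
theorem inf_conj [Finite W] (R : RGD cs h p T n X) (w : W) {S S' : Set (I → ℤ)}
    (hS : ∀ x ∈ S, IsRoot cs h x ∧ 0 ≤ rep cs h w x) (hS' : ∀ x ∈ S', IsRoot cs h x ∧ 0 ≤ rep cs h w x)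
    (hc : Closed cs h S) (hc' : Closed cs h S') {u : Y} (hu : u ∈ RGD.Sup X S) (hu' : u ∈ RGD.Sup X S') :
    u ∈ RGD.Sup X (S ∩ S') := by
  obtain ⟨g, hg⟩ := exists_rp cs R.nsys w
  have key : ∀ {S : Set (I → ℤ)}, (∀ x ∈ S, IsRoot cs h x ∧ 0 ≤ rep cs h w x) → Closed cs h S → u ∈ RGD.Sup X S →
      {x | IsRoot cs h x ∧ rep cs h w⁻¹ x ∈ S} ⊆ RGD.Pos cs h ∧
        Closed cs h {x | IsRoot cs h x ∧ rep cs h w⁻¹ x ∈ S} ∧
        g * u * g⁻¹ ∈ RGD.Sup X {x | IsRoot cs h x ∧ rep cs h w⁻¹ x ∈ S} := by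
    intro S hS hc hu
    refine ⟨fun x hx => ⟨hx.1, ?_⟩, ?_, ?_⟩
    · have := (hS _ hx.2).2
      rwa [rep_apply_inv] at this
    · intro x hx y hy z hz
      exact ⟨hz.1, hc _ hx.2 _ hy.2 _ (hz.act w⁻¹)⟩
    · refine conj_mem_Sup R hg (fun x hx => (hS x hx).1) (fun x hx => ?_) hu
      exact ⟨(hS x hx).1.act _, by rw [rep_inv_apply]; exact hx⟩
  obtain ⟨a1, a2, a3⟩ := key hS hc hu
  obtain ⟨b1, b2, b3⟩ := key hS' hc' hu'
  have h1 : g * u * g⁻¹ ∈ RGD.Sup X ({x | IsRoot cs h x ∧ rep cs h w⁻¹ x ∈ S} ∩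
      {x | IsRoot cs h x ∧ rep cs h w⁻¹ x ∈ S'}) := by
    rw [← inf_eq R a1 b1 a2 b2]
    exact ⟨a3, b3⟩
  have h2 := conj_mem_Sup' R hg (S' := S ∩ S') (fun x hx => hx.1.1) (fun x hx => ⟨hx.1.2, hx.2.2⟩) h1
  have h3 : g⁻¹ * (g * u * g⁻¹) * g = u := by group
  rwa [h3] at h2

end

universe u

variable {K : Type u} [Field K]

/-- the action of a word on the roots -/
def rfw (ω : List (Fin 6)) (q : ℕ) : ℕ := ω.foldr (fun i q => chevE6.reflectRoot i q) q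

theorem rfw_lt : ∀ (ω : List (Fin 6)) {q : ℕ}, q < 72 → rfw ω q < 72 := by
  intro ω q hq
  induction ω with
  | nil => exact hq
  | cons i ω ih => exact (reflectRoot_rt hp.checked (lt_rank hp i) ih).1

theorem rep_word : ∀ (ω : List (Fin 6)) {q : ℕ}, q < 72 →
    rep cs hp.isCartan (cs.wordProd ω) (vec chevE6 6 q) = vec chevE6 6 (rfw ω q) := by
  intro ω q hq
  induction ω with
  | nil => rw [wordProd_nil, map_one, Module.End.one_apply]; rfl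
  | cons i ω ih =>
    rw [wordProd_cons, rep_mul_apply, ih, rep_vec hp cs i (rfw_lt ω hq)]
    rfl

/-- the six words -/
def Wl : List (List (Fin 6)) := [[], [4], [4, 5], [4, 5, 3, 4, 2, 3], [4, 5, 3, 4, 2, 3, 0], [4, 5, 3, 4, 2, 3, 0, 2]]

theorem Wl_mem : ∀ ω ∈ Wl, ∀ i ∈ ω, i ∈ J5 := by decide

theorem tab_m : ∀ q < 72, vec chevE6 6 q 1 < 0 → (∀ ω ∈ Wl, vec chevE6 6 (rfw ω q) 4 < 0) → q = 0 := by
  decide +kernel

theorem tab_p : ∀ q < 72, 0 < vec chevE6 6 q 1 → (∀ ω ∈ Wl, 0 < vec chevE6 6 (rfw ω q) 4) → q = 71 := by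
  decide +kernel

/-! ### Linear conditions -/

theorem btwn_pos {x y z : Fin 6 → ℤ} (hz : Btwn cs hp.isCartan x y z) (f : (Fin 6 → ℤ) →ₗ[ℤ] ℤ) (hx : 0 < f x)
    (hy : 0 < f y) : 0 < f z := by
  obtain ⟨-, m, a, b, hm, ha, hb, e⟩ := hz
  have h1 : m * f z = a * f x + b * f y := by
    have := congrArg f e
    simpa only [map_add, map_smul, smul_eq_mul] using this
  have h2 : 0 < m * f z := by
    rw [h1]
    exact add_pos (mul_pos ha hx) (mul_pos hb hy)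
  exact pos_of_mul_pos_right h2 hm.le

/-- the roots with positive values of the functionals -/
def Cn (Φ : Set ((Fin 6 → ℤ) →ₗ[ℤ] ℤ)) : Set (Fin 6 → ℤ) := {x | IsRoot cs hp.isCartan x ∧ ∀ f ∈ Φ, 0 < f x}

theorem Cn_closed (Φ : Set ((Fin 6 → ℤ) →ₗ[ℤ] ℤ)) : Closed cs hp.isCartan (Cn Φ) :=
  fun _ hx _ hy _ hz => ⟨hz.1, fun f hf => btwn_pos hz f (hx.2 f hf) (hy.2 f hf)⟩

/-- the functional `ε x_k` after `w` -/
noncomputable def fn (ε : ℤ) (k : Fin 6) (ω : List (Fin 6)) : (Fin 6 → ℤ) →ₗ[ℤ] ℤ :=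
  ε • ((LinearMap.proj k).comp (rep cs hp.isCartan (cs.wordProd ω)))

theorem fn_apply (ε : ℤ) (k : Fin 6) (ω : List (Fin 6)) (x : Fin 6 → ℤ) :
    fn ε k ω x = ε * rep cs hp.isCartan (cs.wordProd ω) x k := rfl

theorem fn_nil (ε : ℤ) (k : Fin 6) (x : Fin 6 → ℤ) : fn ε k [] x = ε * x k := by
  rw [fn_apply, wordProd_nil, map_one, Module.End.one_apply]

theorem fn_one (ε : ℤ) {ω : List (Fin 6)} (hω : ∀ i ∈ ω, i ∈ J5) (x : Fin 6 → ℤ) : fn ε 1 ω x = ε * x 1 := by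
  rw [fn_apply, rep_apply_of_mem cs hp.isCartan (J := {k | k ∈ J5}) (wordProd_mem_WJ cs hω) x (by decide)]

theorem fn_comp (ε : ℤ) (k : Fin 6) (ω : List (Fin 6)) (x : Fin 6 → ℤ) :
    fn ε k [] (rep cs hp.isCartan (cs.wordProd ω) x) = fn ε k ω x := by
  rw [fn_nil, fn_apply]

section

variable [Finite K] {p : ℕ} [Fact p.Prime] [CharP K p]

theorem exists_pos (ε : ℤ) (hε : ε = 1 ∨ ε = -1) [Finite CoxeterMatrix.E₆.Group] :
    ∃ w : CoxeterMatrix.E₆.Group, ∀ x, IsRoot cs hp.isCartan x → ∀ k, 0 < ε * x k → 0 ≤ rep cs hp.isCartan w x := by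
  rcases hε with rfl | rfl
  · refine ⟨1, fun x hx k hk => ?_⟩
    rw [map_one, Module.End.one_apply]
    rw [one_mul] at hk
    exact nonneg_of_pos_apply hx hk
  · refine ⟨w0 cs, fun x hx k hk => rep_w0_nonneg hx ?_⟩
    have h1 : 0 < (-x) k := by rw [Pi.neg_apply]; linarith
    exact neg_nonneg.1 (nonneg_of_pos_apply hx.neg h1)

/-- induction on the words -/
theorem center_aux (ε : ℤ) (hε : ε = 1 ∨ ε = -1) {u : ↥(chevE6.group K)}
    (hu : u ∈ RGD.Sup (XX chevE6 6 K) (Cn {fn ε 1 []})) :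
    ∀ l : List (List (Fin 6)), (∀ ω ∈ l, ∀ i ∈ ω, i ∈ J5) →
      (∀ ω ∈ l, ∀ k, Rp cs (rgd (K := K) hp cs p).nsys (cs.wordProd ω) k →
        k * u * k⁻¹ ∈ RGD.Sup (XX chevE6 6 K) (Cn {fn ε 4 []})) →
      u ∈ RGD.Sup (XX chevE6 6 K) (Cn ({fn ε 1 []} ∪ {f | ∃ ω ∈ l, f = fn ε 4 ω})) := by
  have := finite_W hp cs
  have R := rgd (K := K) hp cs p
  obtain ⟨w, hw⟩ := exists_pos ε hε
  intro l
  induction l with
  | nil =>
    intro _ _
    refine RGD.Sup_mono ?_ hu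
    rintro x ⟨hx, h1⟩
    refine ⟨hx, ?_⟩
    rintro f (hf | ⟨ω, hω, -⟩)
    · exact h1 f hf
    · simp at hω
  | cons ω l ih =>
    intro hl h
    have h1 := ih (fun ω hω => hl ω (List.mem_cons_of_mem _ hω)) (fun ω hω => h ω (List.mem_cons_of_mem _ hω))
    have hωJ := hl ω List.mem_cons_self
    obtain ⟨k, hk⟩ := exists_rp cs (rgd (K := K) hp cs p).nsys (cs.wordProd ω)
    have h2 := h ω List.mem_cons_self k hk
    have h3 : k * u * k⁻¹ ∈ RGD.Sup (XX chevE6 6 K) (Cn {fn ε 1 []}) := by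
      refine conj_mem_Sup (rgd (K := K) hp cs p) hk (S := Cn {fn ε 1 []}) (S' := Cn {fn ε 1 []}) (fun x hx => hx.1)
        (fun x hx => ?_) hu
      refine ⟨hx.1.act _, ?_⟩
      rintro f rfl
      rw [fn_comp, fn_one ε hωJ]
      have := hx.2 _ rfl
      rwa [fn_nil] at this
    have h4 := inf_conj (rgd (K := K) hp cs p) w (fun x hx => ⟨hx.1, hw x hx.1 1 (by
        have := hx.2 _ rfl
        rwa [fn_nil] at this)⟩) (fun x hx => ⟨hx.1, hw x hx.1 4 (by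
        have := hx.2 _ rfl
        rwa [fn_nil] at this)⟩) (Cn_closed _) (Cn_closed _) h3 h2
    have h5 := conj_mem_Sup' (rgd (K := K) hp cs p) hk (S' := Cn {fn ε 1 [], fn ε 4 ω}) (fun x hx => hx.1.1)
      (fun x hx => ⟨hx.1.1.act _, by
        rintro f (rfl | rfl)
        · have h6 := fn_one ε (ω := ω) hωJ (rep cs hp.isCartan (cs.wordProd ω)⁻¹ x)
          rw [← fn_comp, rep_apply_inv] at h6
          rw [fn_nil, ← h6]
          exact hx.1.2 _ rfl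
        · rw [← fn_comp, rep_apply_inv]
          exact hx.2.2 _ rfl⟩) h4
    have h6 : k⁻¹ * (k * u * k⁻¹) * k = u := by group
    rw [h6] at h5
    have h7 := inf_conj (rgd (K := K) hp cs p) w (fun x hx => ⟨hx.1, hw x hx.1 1 (by
        have := hx.2 _ (Or.inl rfl)
        rwa [fn_nil] at this)⟩) (fun x hx => ⟨hx.1, hw x hx.1 1 (by
        have := hx.2 _ (Or.inl rfl)
        rwa [fn_nil] at this)⟩) (Cn_closed _) (Cn_closed _) h1 h5
    refine RGD.Sup_mono ?_ h7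
    rintro x ⟨⟨hx, ha⟩, -, hb⟩
    refine ⟨hx, ?_⟩
    rintro f (hf | ⟨ω', hω', rfl⟩)
    · exact ha f (Or.inl hf)
    · rcases List.mem_cons.1 hω' with rfl | hω'
      · exact hb _ (Or.inr rfl)
      · exact ha _ (Or.inr ⟨ω', hω', rfl⟩)

theorem VNJ_Cn {J : List (Fin 6)} {k : Fin 6} (hJ : ∀ j, j ∉ J ↔ j = k) :
    VNJ cs hp.isCartan (XX chevE6 6 K) {k | k ∈ J} = RGD.Sup (XX chevE6 6 K) (Cn {fn (-1) k []}) := by
  rw [VNJ_eq]
  unfold SP
  congr 1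
  ext x
  constructor
  · rintro ⟨hx, j, hj, h0⟩
    refine ⟨hx, ?_⟩
    rintro f rfl
    rw [(hJ j).1 hj] at h0
    rw [fn_nil]
    linarith
  · rintro ⟨hx, h0⟩
    refine ⟨hx, k, (hJ k).2 rfl, ?_⟩
    have := h0 _ rfl
    rw [fn_nil] at this
    linarith

theorem VJ_Cn {J : List (Fin 6)} {k : Fin 6} (hJ : ∀ j, j ∉ J ↔ j = k) :
    VJ cs hp.isCartan (XX chevE6 6 K) {k | k ∈ J} = RGD.Sup (XX chevE6 6 K) (Cn {fn 1 k []}) := by
  rw [VJ_eq]
  unfold SP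
  congr 1
  ext x
  constructor
  · rintro ⟨hx, j, hj, h0⟩
    refine ⟨hx, ?_⟩
    rintro f rfl
    rw [(hJ j).1 hj] at h0
    rw [fn_nil]
    linarith
  · rintro ⟨hx, h0⟩
    refine ⟨hx, k, (hJ k).2 rfl, ?_⟩
    have := h0 _ rfl
    rw [fn_nil] at this
    linarith

theorem notJ5 : ∀ j : Fin 6, j ∉ J5 ↔ j = 1 := by decide

theorem notJp : ∀ j : Fin 6, j ∉ Jp ↔ j = 4 := by decide

/-- the lower side -/
theorem center_m {u : ↥(chevE6.group K)} (hu : u ∈ VNJ cs hp.isCartan (XX chevE6 6 K) {k | k ∈ J5})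
    (h : ∀ ω ∈ Wl, ∀ k, Rp cs (rgd (K := K) hp cs p).nsys (cs.wordProd ω) k →
        k * u * k⁻¹ ∈ VNJ cs hp.isCartan (XX chevE6 6 K) {k | k ∈ Jp}) :
    u ∈ XX chevE6 6 K (vec chevE6 6 0) := by
  rw [VNJ_Cn notJ5] at hu
  rw [VNJ_Cn notJp] at h
  have h1 := center_aux (p := p) (-1) (Or.inr rfl) hu Wl Wl_mem h
  refine (RGD.Sup_le ?_ : RGD.Sup (XX chevE6 6 K) _ ≤ _) h1
  rintro x ⟨hx, h2⟩
  obtain ⟨q, hq, rfl⟩ := (isRoot_iff hp _ x).1 hx
  have h3 : q = 0 := by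
    refine tab_m q hq ?_ fun ω hω => ?_
    · have := h2 _ (Or.inl rfl)
      rw [fn_nil] at this
      linarith
    · have := h2 _ (Or.inr ⟨ω, hω, rfl⟩)
      rw [fn_apply, rep_word ω hq] at this
      linarith
  rw [h3]

/-- the upper side -/
theorem center_p {u : ↥(chevE6.group K)} (hu : u ∈ VJ cs hp.isCartan (XX chevE6 6 K) {k | k ∈ J5})
    (h : ∀ ω ∈ Wl, ∀ k, Rp cs (rgd (K := K) hp cs p).nsys (cs.wordProd ω) k →
        k * u * k⁻¹ ∈ VJ cs hp.isCartan (XX chevE6 6 K) {k | k ∈ Jp}) :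
    u ∈ XX chevE6 6 K (vec chevE6 6 71) := by
  rw [VJ_Cn notJ5] at hu
  rw [VJ_Cn notJp] at h
  have h1 := center_aux (p := p) 1 (Or.inl rfl) hu Wl Wl_mem h
  refine (RGD.Sup_le ?_ : RGD.Sup (XX chevE6 6 K) _ ≤ _) h1
  rintro x ⟨hx, h2⟩
  obtain ⟨q, hq, rfl⟩ := (isRoot_iff hp _ x).1 hx
  have h3 : q = 71 := by
    refine tab_p q hq ?_ fun ω hω => ?_
    · have := h2 _ (Or.inl rfl)
      rw [fn_nil] at this
      linarith
    · have := h2 _ (Or.inr ⟨ω, hω, rfl⟩)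
      rw [fn_apply, rep_word ω hq] at this
      linarith
  rw [h3]

end

end Cfsg.Agent.H335.TC.E6W
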