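import Cfsg.Agent.H140.TC.Fam
import Cfsg.Agent.H197.OreF.Main

/-!
# S4173, `F₄(2)` (helper335)

`tc_F4_two` : one class of elements of order 21 squares to the whole group (helper197).
-/

set_option autoImplicit false

namespace Cfsg.Agent.H335.TC

open Cfsg.Lie

universe u

/-- **S4173, `F₄(2)`** -/
theorem tc_F4_two {K : Type u} [Field K] [Fintype K] (hK : Fintype.card K = 2) :
    Cfsg.Agent.H140.TC.TC ↥(chevF4.group K) := by
  obtain ⟨c, -, -, -, h⟩ := Cfsg.Agent.H197.OreF.square_F4_two hK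
  exact ⟨c, c, fun g _ => h g⟩

end Cfsg.Agent.H335.TC
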